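import Cfsg.Agent.H443.XC.Defs
import Cfsg.Agent.H788.RatB.Rat_m3
import Cfsg.Agent.H245.DM.Count
import Cfsg.Agent.H518.Co13
import Cfsg.Agent.H31.TwoCyc.MThirteen
import Cfsg.Agent.H58.Mon.FiveB_m3
import Cfsg.Agent.H609.Inv.MThirC_m3
import Cfsg.Agent.H465.PiBSFour
import Mathlib.GroupTheory.FixedPointFree
import Cfsg.Agent.FastGrp
import Cfsg.Agent.Prune
set_option linter.all false
prune_inst 0x7f00000000000000000000000000000000000000000000000000000000000000000000000000000000000000000000000000000000000000000000000000000000000000000000000000000000000000003fffffffffffffffffffffffffffbeffbdffffffff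
open scoped Cfsg.Agent.FastGrp

-- part: H761/XZ/Tool
section
/-!
# S4791 + S4927: `X0` for groups without elements of order `p²` and with `C(P) ≤ P` (helper761)
-/

set_option autoImplicit false
set_option linter.unusedSectionVars false

open Cfsg Subgroup
open scoped ComplexConjugate

namespace Cfsg.Agent.H761.XZ

open Cfsg.Agent.H674.XZ

universe u v

/-- No elements of order `p²` : every character is almost `p`-rational. -/
theorem alm_of_order {G : Type u} [Group G] [Finite G] {p : ℕ} [hp : Fact p.Prime] (ho : ∀ g : G, ¬ p ^ 2 ∣ orderOf g)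
    {χ : G → ℂ} (hχ : IsCharacter G χ) : Alm p χ := by
  rw [alm_iff_fun hχ]
  intro u hu g
  have h1 := (mem_JJ (p := p) u).1 hu
  have h2 : orderOf g ∣ dd p G := by
    have h3 := gcd_dvd_dd hp.out G (ho g)
    rwa [Nat.gcd_eq_right (orderOf_dvd_natCard g)] at h3
  have h4 : g ^ ex u = g ^ 1 := by
    rw [pow_eq_pow_iff_modEq]
    exact h1.of_dvd h2
  rw [h4, pow_one]

/-- If the `p'`-elements centralizing a `p`-subgroup are trivial, every irreducible character of degree prime to `p` is in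
the principal block. -/
theorem mem_of_cent {G : Type u} [Group G] [Finite G] {p : ℕ} [hp : Fact p.Prime] {M : Ideal AlgInt}
    (hM : IsPModular p M) {U : Subgroup G} (hU : IsPGroup p U)
    (hC : ∀ y : G, y ∈ centralizer (U : Set G) → ¬ p ∣ orderOf y → y = 1) (χ : IrrCharacter G)
    (hχ : ¬ p ∣ charDegree (χ : G → ℂ)) : χ ∈ principalBlock M G := by
  refine H493.RatB.mem_of_value hM hU χ hχ fun y hy hy' => ?_
  rw [hC y hy hy', sub_self]
  exact Blocks.LocalRing.memLocalIdeal_zero hM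

/-- the number `x0` -/
theorem x0_eq {G : Type u} [Group G] [Finite G] {p : ℕ} [hp : Fact p.Prime] {M : Ideal AlgInt}
    (hM : IsPModular p M) {U : Subgroup G} (hU : IsPGroup p U)
    (hC : ∀ y : G, y ∈ centralizer (U : Set G) → ¬ p ∣ orderOf y → y = 1) (ho : ∀ g : G, ¬ p ^ 2 ∣ orderOf g) :
    x0 p M G = Nat.card {χ : IrrCharacter G // ¬ p ∣ charDegree (χ : G → ℂ)} := by
  unfold x0
  refine Nat.card_congr (Equiv.subtypeEquivRight fun χ => ?_)
  constructor
  · exact fun h => h.2.1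
  · exact fun h => ⟨mem_of_cent hM hU hC χ h, h, alm_of_order ho (Blocks.Basic.irr_isCharacter χ.2)⟩

end Cfsg.Agent.H761.XZ
end

-- part: H404/XR/MLoc
section
/-!
# The Monster at 13: `C(P) ≤ P`, no element of order 169 (helper404, for S4791 + S4927)

`R` a Sylow 13-subgroup, `x ∈ Z(R)`; a four-group of `N(R) ∩ N(⟨x⟩)` acts on the group `C(R)` of odd order.

* `exists_comm` : `r` a prime divisor of `|C(R)|`: an involution `w` of `N(R) ∩ N(⟨x⟩)` commutes with an element of order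
  `r` of `C(R)`;
* `model_thirteen` : the model;
* `no_sq_m13`, `centP_m13`, `x0_thirteen` : groups with `Spor.IsoM`.
-/

set_option autoImplicit false
set_option maxRecDepth 100000
set_option linter.unusedSectionVars false
set_option linter.style.haveILetI false

namespace Cfsg.Agent.H404.XR

open Subgroup Cfsg
open Cfsg.Agent.H131.T5M13 (D exists_conj_le mem_normalizer_of pow5)
open Cfsg.Agent.H609.Inv.Thirteen (RW Ab exists_RW)

universe u v

section

variable {G : Type u} [Group G] [Finite G] {x z t : G} {Q R W : Subgroup G}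

/-- an element of `N(R)` which maps `x` to `x ^ 5` -/
theorem exists_five (h : D x z t Q) (hr : RW x Q R W) :
    ∃ d : G, (∀ r ∈ R, d * r * d⁻¹ ∈ R) ∧ d * x * d⁻¹ = x ^ 5 := by
  have hp : Fact (Nat.Prime 13) := ⟨by norm_num⟩
  obtain ⟨c, hc⟩ := h.four
  have hx13 : x ^ 13 = 1 := by rw [← h.hyp.hx, pow_orderOf_eq_one]
  have hcR : ∀ r ∈ R, (c * r * c⁻¹) * x = x * (c * r * c⁻¹) := by
    intro r hrR
    have h1 : x = c * x ^ 8 * c⁻¹ := by
      rw [← conj_pow, hc, ← pow_mul]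
      calc x = x ^ 13 * x ^ 13 * x ^ 13 * x := by rw [hx13]; group
        _ = x ^ (5 * 8) := by rw [← pow_add, ← pow_add, ← pow_succ]
    have h2 : Commute r (x ^ 8) := (show Commute r x from hr.cen r hrR).pow_right 8
    calc (c * r * c⁻¹) * x = (c * r * c⁻¹) * (c * x ^ 8 * c⁻¹) := by rw [← h1]
      _ = c * (r * x ^ 8) * c⁻¹ := by group
      _ = c * (x ^ 8 * r) * c⁻¹ := by rw [h2.eq]
      _ = (c * x ^ 8 * c⁻¹) * (c * r * c⁻¹) := by group
      _ = x * (c * r * c⁻¹) := by rw [← h1]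
  have hRC : R ≤ centralizer ({x} : Set G) := fun r hrR => mem_centralizer_singleton_iff.2 (hr.cen r hrR)
  have hcRC : R.map (MulAut.conj c).toMonoidHom ≤ centralizer ({x} : Set G) := by
    rintro _ ⟨r, hrR, rfl⟩
    exact mem_centralizer_singleton_iff.2 (hcR r hrR)
  have hcardC : ∀ A : Subgroup G, A ≤ centralizer ({x} : Set G) → Nat.card ↥A = 13 ^ 3 →
      IsPGroup 13 ↥(A.subgroupOf (centralizer ({x} : Set G))) ∧
        ¬ 13 ∣ (A.subgroupOf (centralizer ({x} : Set G))).index := by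
    intro A hA hAc
    have h5 : Nat.card ↥(A.subgroupOf (centralizer ({x} : Set G))) = 13 ^ 3 := by
      rw [← hAc]
      exact Nat.card_congr (Subgroup.subgroupOfEquivOfLe hA).toEquiv
    refine ⟨IsPGroup.of_card h5, fun hd => h.hyp.h4 ?_⟩
    have h6 := (A.subgroupOf (centralizer ({x} : Set G))).card_mul_index
    rw [h5] at h6
    have h7 : 13 ^ 4 ∣ Nat.card ↥(centralizer ({x} : Set G)) := by
      rw [← h6, pow_succ 13 3]
      exact Nat.mul_dvd_mul_left _ hd
    exact h7.trans (Subgroup.card_subgroup_dvd_card _)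
  obtain ⟨a1, a2⟩ := hcardC R hRC hr.card
  obtain ⟨b1, b2⟩ := hcardC _ hcRC (by
    rw [Subgroup.card_map_of_injective (MulAut.conj c).injective]; exact hr.card)
  obtain ⟨f, hf⟩ := MulAction.exists_smul_eq ↥(centralizer ({x} : Set G)) (b1.toSylow b2) (a1.toSylow a2)
  refine ⟨(f : G) * c, ?_, ?_⟩
  · intro r hrR
    have h5 : (⟨c * r * c⁻¹, mem_centralizer_singleton_iff.2 (hcR r hrR)⟩ : ↥(centralizer ({x} : Set G))) ∈
        (R.map (MulAut.conj c).toMonoidHom).subgroupOf (centralizer ({x} : Set G)) := ⟨r, hrR, rfl⟩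
    have h6 : MulAut.conj f ⟨c * r * c⁻¹, mem_centralizer_singleton_iff.2 (hcR r hrR)⟩ ∈
        (f • (b1.toSylow b2) : Sylow 13 ↥(centralizer ({x} : Set G))) :=
      Subgroup.smul_mem_pointwise_smul _ (MulAut.conj f) _ h5
    rw [hf] at h6
    have h7 : (f : G) * (c * r * c⁻¹) * (f : G)⁻¹ ∈ R := h6
    have e : ((f : G) * c) * r * ((f : G) * c)⁻¹ = (f : G) * (c * r * c⁻¹) * (f : G)⁻¹ := by group
    rw [e]; exact h7
  · have h5 : (f : G) * x = x * f := mem_centralizer_singleton_iff.1 f.2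
    calc ((f : G) * c) * x * ((f : G) * c)⁻¹ = (f : G) * (c * x * c⁻¹) * (f : G)⁻¹ := by group
      _ = (f : G) * x ^ 5 * (f : G)⁻¹ := by rw [hc]
      _ = x ^ 5 := by
        rw [mul_inv_eq_iff_eq_mul]
        exact ((show Commute (f : G) x from h5).pow_right 5).eq

/-- **An involution of `N(R) ∩ N(⟨x⟩)` commuting with an element of order `r` of `C(R)`.** -/
theorem exists_comm (h : D x z t Q) (hr : RW x Q R W) {r : ℕ} (hrp : r.Prime)
    (hd : r ∣ Nat.card ↥(centralizer (R : Set G))) :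
    ∃ w y : G, w * w = 1 ∧ w ≠ 1 ∧ (∀ c ∈ R, w * c * w⁻¹ ∈ R) ∧ (∀ c ∈ zpowers x, w * c * w⁻¹ ∈ zpowers x) ∧
      y ∈ centralizer (R : Set G) ∧ orderOf y = r ∧ w * y = y * w := by
  classical
  haveI : Fact (Nat.Prime 2) := ⟨Nat.prime_two⟩
  obtain ⟨d, hdR, hdx⟩ := exists_five h hr
  let M1 : Subgroup G := normalizer (R : Set G) ⊓ normalizer ((zpowers x : Subgroup G) : Set G)
  have hdM : d ∈ M1 := by
    refine mem_inf.2 ⟨mem_normalizer_of hdR, mem_normalizer_of ?_⟩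
    intro c hc
    obtain ⟨k, rfl⟩ := mem_zpowers_iff.1 hc
    rw [← conj_zpow, hdx]
    exact zpow_mem (pow_mem (mem_zpowers x) 5) k
  have hQM : Q ≤ M1 := by
    intro q hq
    refine mem_inf.2 ⟨mem_normalizer_of (hr.qr q hq), mem_normalizer_of ?_⟩
    intro c hc
    obtain ⟨k, rfl⟩ := mem_zpowers_iff.1 hc
    have h5 : q * x ^ k * q⁻¹ = x ^ k := by
      rw [mul_inv_eq_iff_eq_mul]
      exact ((show Commute q x from h.hyp.qx q hq).zpow_right k).eq
    rw [h5]
    exact zpow_mem (mem_zpowers x) k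
  -- the centralizer of `R`
  have hCM : centralizer (R : Set G) ≤ M1 := by
    intro c hc
    rw [mem_centralizer_iff] at hc
    refine mem_inf.2 ⟨mem_normalizer_of fun r hrR => ?_, mem_normalizer_of fun r hrx => ?_⟩
    · rw [← hc r hrR, mul_inv_cancel_right]
      exact hrR
    · rw [← hc r ((zpowers_le.2 hr.mem) hrx), mul_inv_cancel_right]
      exact hrx
  let N : Subgroup ↥M1 := (centralizer (R : Set G)).subgroupOf M1
  have hNn : N.Normal := by
    refine ⟨fun n hn g => ?_⟩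
    have hn' : ∀ r ∈ R, r * (n : G) = n * r := fun r hrR => mem_centralizer_iff.1 (mem_subgroupOf.1 hn) r hrR
    refine mem_subgroupOf.2 (mem_centralizer_iff.2 fun r hrR => ?_)
    have h1 : (g : G)⁻¹ * r * (g : G) ∈ R := by
      have h2 := (mem_normalizer_iff.1 (mem_inf.1 (M1.inv_mem g.2)).1 r).1 hrR
      rwa [inv_inv] at h2
    show r * ((g : G) * n * (g : G)⁻¹) = ((g : G) * n * (g : G)⁻¹) * r
    calc r * ((g : G) * n * (g : G)⁻¹) = g * (((g : G)⁻¹ * r * g) * n) * (g : G)⁻¹ := by group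
      _ = g * (n * ((g : G)⁻¹ * r * g)) * (g : G)⁻¹ := by rw [hn' _ h1]
      _ = _ := by group
  have hNcard : Nat.card ↥N = Nat.card ↥(centralizer (R : Set G)) :=
    Nat.card_congr (Subgroup.subgroupOfEquivOfLe hCM).toEquiv
  have hNodd : Odd (Nat.card ↥N) := by
    rw [← Nat.not_even_iff_odd]
    intro he
    obtain ⟨u, hu⟩ := exists_prime_orderOf_dvd_card' 2 he.two_dvd
    have hu' : orderOf ((u : ↥M1) : G) = 2 := by rw [Subgroup.orderOf_coe, Subgroup.orderOf_coe, hu]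
    exact hr.no_cent h hu' fun r hrR => (mem_centralizer_iff.1 (mem_subgroupOf.1 u.2) r hrR).symm
  let x' : ↥M1 := ⟨x, mem_inf.2 ⟨le_normalizer hr.mem, le_normalizer (mem_zpowers x)⟩⟩
  have hxn : (zpowers x').Normal := by
    refine ⟨fun c hc g => ?_⟩
    obtain ⟨i, rfl⟩ := mem_zpowers_iff.1 hc
    obtain ⟨j, hj⟩ := mem_zpowers_iff.1 ((mem_normalizer_iff.1 (mem_inf.1 g.2).2 (x ^ i)).1 (zpow_mem (mem_zpowers x) i))
    exact mem_zpowers_iff.2 ⟨j, Subtype.ext (by
      show x ^ j = (g : G) * x ^ i * (g : G)⁻¹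
      exact hj)⟩
  -- the 2-part of `d`
  obtain ⟨k, m, hmo, hkm⟩ := Nat.exists_eq_two_pow_mul_odd (orderOf_pos d).ne'
  have hcp : ∀ n : ℕ, d ^ n * x * (d ^ n)⁻¹ = x ^ (5 ^ n) := pow5 hdx
  let c2 : ↥M1 := ⟨d ^ m, pow_mem hdM m⟩
  have hc2 : IsPGroup 2 ↥(zpowers c2) := by
    refine IsPGroup.of_card (n := k) ?_
    rw [Nat.card_zpowers, ← Subgroup.orderOf_coe]
    show orderOf (d ^ m) = 2 ^ k
    rw [orderOf_pow_of_dvd hmo.pos.ne' (hkm ▸ dvd_mul_left m (2 ^ k)), hkm, Nat.mul_div_cancel _ hmo.pos]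
  obtain ⟨T, hT⟩ := hc2.exists_le_sylow
  -- `T` is not abelian
  have hQp : IsPGroup 2 ↥(Q.subgroupOf M1) := h.hyp.q2.comap_of_injective M1.subtype M1.subtype_injective
  obtain ⟨T', hT'⟩ := hQp.exists_le_sylow
  obtain ⟨g, hg⟩ := MulAction.exists_smul_eq ↥M1 T' T
  have hconj : ∀ q ∈ (T' : Subgroup ↥M1), g * q * g⁻¹ ∈ (T : Subgroup ↥M1) := by
    intro q hq
    rw [← hg]
    exact Subgroup.smul_mem_pointwise_smul q (MulAut.conj g) _ hq
  have hnc : ∃ a b : ↥(T : Subgroup ↥M1), a * b ≠ b * a := by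
    obtain ⟨a, ha, b, hb, hab⟩ := h.hyp.nc
    have ha' := hconj ⟨a, hQM ha⟩ (hT' (mem_subgroupOf.2 ha))
    have hb' := hconj ⟨b, hQM hb⟩ (hT' (mem_subgroupOf.2 hb))
    refine ⟨⟨_, ha'⟩, ⟨_, hb'⟩, fun heq => hab ?_⟩
    have h1 : g * (⟨a, hQM ha⟩ : ↥M1) * g⁻¹ * (g * (⟨b, hQM hb⟩ : ↥M1) * g⁻¹) =
      g * (⟨b, hQM hb⟩ : ↥M1) * g⁻¹ * (g * (⟨a, hQM ha⟩ : ↥M1) * g⁻¹) := congrArg Subtype.val heq
    have h2 : (⟨a, hQM ha⟩ : ↥M1) * ⟨b, hQM hb⟩ = ⟨b, hQM hb⟩ * ⟨a, hQM ha⟩ := by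
      have h3 : g * ((⟨a, hQM ha⟩ : ↥M1) * ⟨b, hQM hb⟩) * g⁻¹ = g * ((⟨b, hQM hb⟩ : ↥M1) * ⟨a, hQM ha⟩) * g⁻¹ := by
        calc _ = g * (⟨a, hQM ha⟩ : ↥M1) * g⁻¹ * (g * (⟨b, hQM hb⟩ : ↥M1) * g⁻¹) := by group
          _ = g * (⟨b, hQM hb⟩ : ↥M1) * g⁻¹ * (g * (⟨a, hQM ha⟩ : ↥M1) * g⁻¹) := h1
          _ = _ := by group
      exact mul_left_cancel (mul_right_cancel h3)
    exact congrArg Subtype.val h2
  -- the homomorphism
  haveI := hxn
  let f : ↥M1 →* MulAut ↥(zpowers x') := MulAut.conjNormal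
  have hAc : ∀ a b : MulAut ↥(zpowers x'), a * b = b * a := by
    intro a b
    apply (IsCyclic.mulAutMulEquiv ↥(zpowers x')).injective
    rw [map_mul, map_mul, mul_comm]
  have hfc : (f.comp (T : Subgroup ↥M1).subtype) ⟨c2, hT (mem_zpowers c2)⟩ *
      (f.comp (T : Subgroup ↥M1).subtype) ⟨c2, hT (mem_zpowers c2)⟩ ≠ 1 := by
    intro h1
    rw [← map_mul] at h1
    have h2 : f (c2 * c2) ⟨x', mem_zpowers x'⟩ = ⟨x', mem_zpowers x'⟩ := by
      have h3 : f (c2 * c2) = 1 := h1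
      rw [h3]; rfl
    have h3 : (d ^ m * d ^ m) * x * (d ^ m * d ^ m)⁻¹ = x := by
      have h4 := congrArg (fun g : ↥(zpowers x') => ((g : ↥M1) : G)) h2
      exact h4
    rw [← pow_add, hcp] at h3
    have h4 : x ^ (5 ^ (m + m)) = x ^ 1 := by rw [h3, pow_one]
    rw [pow_eq_pow_iff_modEq, h.hyp.hx] at h4
    have h5 : 5 ^ (m + m) ≡ 12 [MOD 13] := by
      obtain ⟨i, rfl⟩ := hmo
      have h6 : 5 ^ (2 * i + 1 + (2 * i + 1)) = (5 ^ 4) ^ i * 25 := by
        rw [← pow_mul, show 25 = 5 ^ 2 by norm_num, ← pow_add]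
        congr 1
        ring
      rw [h6]
      have h7 : (5 ^ 4) ^ i ≡ 1 ^ i [MOD 13] := Nat.ModEq.pow i (by decide)
      rw [one_pow] at h7
      exact (h7.mul_right 25).trans (by decide)
    exact absurd (h5.symm.trans h4) (by decide)
  obtain ⟨u, v, hu, hv, huv, hcuv⟩ := H465.SporB.exists_four T.isPGroup' hnc hAc (f.comp (T : Subgroup ↥M1).subtype) hfc
  have hne : ∀ {u : ↥(T : Subgroup ↥M1)}, orderOf u = 2 → (u : ↥M1) * u = 1 ∧ (u : ↥M1) ≠ 1 := by
    intro u hu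
    have h1 : orderOf (u : ↥M1) = 2 := by rw [Subgroup.orderOf_coe, hu]
    have h3 := pow_orderOf_eq_one (u : ↥M1)
    rw [h1, pow_two] at h3
    refine ⟨h3, fun h2 => ?_⟩
    rw [h2, orderOf_one] at h1
    norm_num at h1
  have hnN : ∀ u : ↥M1, u ∈ normalizer (N : Set ↥M1) := fun u => by
    rw [normalizer_eq_top_iff.2 hNn]; exact mem_top u
  obtain ⟨w, y, hww, hw1, hyN, hyo, hwy⟩ := H465.SporB.exists_comm_four (p := r) hrp hNodd
    (by rw [hNcard]; exact hd)
    (hne hu).1 (hne hv).1 (congrArg Subtype.val hcuv) (fun h1 => huv (Subtype.ext h1)) (hnN _) (hnN _)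
    (hne hu).2 (hne hv).2
  exact ⟨w, y, congrArg Subtype.val hww, fun h1 => hw1 (Subtype.ext h1),
    fun c hc => (mem_normalizer_iff.1 (mem_inf.1 w.2).1 c).1 hc,
    fun c hc => (mem_normalizer_iff.1 (mem_inf.1 w.2).2 c).1 hc, mem_subgroupOf.1 hyN,
    by rw [Subgroup.orderOf_coe, hyo], congrArg Subtype.val hwy⟩

/-- an involution acting without fixed points -/
theorem comm_of_free {w : G} (hww : w * w = 1) (hwR : ∀ c ∈ R, w * c * w⁻¹ ∈ R)
    (hf : ∀ c ∈ R, w * c * w⁻¹ = c → c = 1) : ∀ a ∈ R, ∀ b ∈ R, a * b = b * a := by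
  let φ : ↥R → ↥R := fun c => ⟨w * c * w⁻¹, hwR c c.2⟩
  let φ' : ↥R →* ↥R :=
    { toFun := φ
      map_one' := Subtype.ext (by
        show w * 1 * w⁻¹ = 1
        rw [mul_one, mul_inv_cancel])
      map_mul' := fun a b => Subtype.ext (by
        show w * (a * b) * w⁻¹ = (w * a * w⁻¹) * (w * b * w⁻¹)
        group) }
  have h1 : MonoidHom.FixedPointFree φ' := by
    intro c hc
    exact Subtype.ext (hf c c.2 (congrArg Subtype.val hc))
  have h2 : Function.Involutive φ' := by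
    intro c
    refine Subtype.ext ?_
    show w * (w * c * w⁻¹) * w⁻¹ = c
    calc w * (w * c * w⁻¹) * w⁻¹ = (w * w) * c * (w * w)⁻¹ := by group
      _ = c := by rw [hww, one_mul, inv_one, mul_one]
  intro a ha b hb
  exact congrArg Subtype.val (h1.commute_all_of_involutive h2 ⟨a, ha⟩ ⟨b, hb⟩).eq

end

/-! ### The Monster -/

open Cfsg.Agent.MonsterX Cfsg.Agent.MonsterX.InstData Cfsg.Agent.MonsterX.MainPack Cfsg.Agent.MonsterU
open Cfsg.Agent.MonsterP Cfsg.Agent.MonsterN Cfsg.Agent.LThreeMB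
open Cfsg.Agent.MonsterX.MainBasic Cfsg.Agent.MonsterX.MainSimple Cfsg.Agent.MonsterX.Model
open Cfsg.Agent.MonsterU.Lam2 Cfsg.Agent.MonsterU.TwoCls
open Cfsg.Agent.BpSpor.MBigModel Cfsg.Agent.H199.NSmMon

section D

open Cfsg.Agent.H131.T5M13 Cfsg.Agent.H131.T5Cube Cfsg.Agent.H609.Inv.Thirteen
open Cfsg.Agent.H794.MonLift Cfsg.Agent.H794.MonThirteen
open Cfsg.Spor (Co1)

/-- the configuration of helper131 with `z = zz` (the proof of helper58) -/
theorem model_DD : ∃ (x t : MG) (Q : Subgroup MG), D x zz t Q := by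
  have hfin := MFive.Row.finite_model
  have hc := MFive.Row.hc
  have h := KChart.chart KDone.lft hc
  have h13 : Nat.Prime 13 := by norm_num
  obtain ⟨x, hx, hxs⟩ := MFive.KPair.exists_order h h13 (by decide) orderOf_s
  have hx13 : x ^ 13 = 1 := by rw [← hx, pow_orderOf_eq_one]
  have hfr : fr (KChart.pi hc x) = 1 := BpMon.Thirteen.fr_pi KDone.lft hc hx
  have hzx : KDone.K.z * (x : ↥InstData.M.G) = x * KDone.K.z := (mem_centralizer_singleton_iff.1 x.2).symm
  have only : ∀ t : ↥InstData.M.G, t * x = x * t → t * KDone.K.z = KDone.K.z * t → t * t = 1 → t = 1 ∨ t = KDone.K.z := by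
    intro t htx htz htt
    by_cases ht : t = 1
    · exact Or.inl ht
    · right
      exact BpMon.Thirteen.only_inv KDone.lft hc (x := x) (t := ⟨t, mem_centralizer_singleton_iff.2 htz⟩) hx
        (Subtype.ext htt) (fun h1 => ht (congrArg Subtype.val h1)) (Subtype.ext htx.symm)
  obtain ⟨k, hk, hkm⟩ := exists_mem h h13 (by decide) hx13 (V := V) b_mem (by rw [hxs]; exact bs)
  obtain ⟨l, hl, hlm⟩ := exists_mem h h13 (by decide) hx13 (V := V) c_mem (by rw [hxs]; exact cs)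
  refine ⟨x, tG KDone.mGroup KDone.mRep, Cfsg.Agent.H794.MonLift.lft (KChart.pi hc) x V, ⟨?_, ?_, ?_, ?_, ?_, ?_, ?_⟩⟩
  · refine ⟨?_, by rw [orderOf_coe, hx], by norm_num, hzx, only, isPGroup_lft h (by decide) hx13 hfr fun v hv => V_sq hv,
      fun q hq => lft_x hq, fun q hq => lft_z hq, z_mem h, ⟨k, hkm, l, hlm, not_comm h hx13 hfr only hk hl (lft_x hkm)
        (lft_x hlm)⟩, ?_, ?_, ?_⟩
    · have : Fact (Nat.Prime 2) := ⟨Nat.prime_two⟩
      exact orderOf_eq_prime (by rw [pow_two]; exact h.large.z_sq) h.large.z_ne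
    · intro h7
      have h1 := h7.trans (BpRankZero.Seven.card_cz h)
      rw [Cfsg.Agent.MonsterU.CoFrameF.card_Co1] at h1
      norm_num at h1
    · rw [Cfsg.Agent.MonsterP.EquivOf.isM_model.2]
      norm_num
    · rw [Cfsg.Agent.MonsterP.EquivOf.isM_model.2]
      norm_num
  · -- the order of `t`
    have : Fact (Nat.Prime 2) := ⟨Nat.prime_two⟩
    exact orderOf_eq_prime (by rw [pow_two]; exact Subtype.ext KDone.mRep.t₀_sq)
      fun h => KDone.mRep.t₀_ne (congrArg Subtype.val h)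
  · -- `z` and `t` are not conjugate
    intro hcj
    obtain ⟨g, hg⟩ := isConj_iff.1 hcj.symm
    exact MThirteen.Row.ta_ne (t := tG KDone.mGroup KDone.mRep) (IsConj.refl _) g hg
  · -- the classes
    intro v hv
    have hv1 : v ≠ 1 := by
      rintro rfl
      rw [orderOf_one] at hv
      exact absurd hv (by norm_num)
    rcases MFive.Row.two v (by rw [← pow_two, ← hv, pow_orderOf_eq_one]) hv1 with ⟨g, hg⟩ | ⟨g, hg⟩
    · exact Or.inl (isConj_iff.2 ⟨g, hg⟩)
    · exact Or.inr (isConj_iff.2 ⟨g, hg⟩)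
  · -- the centralizer of `t`
    have h1 : Nat.card ↥(centralizer ({tG KDone.mGroup KDone.mRep} : Set ↥InstData.M.G)) = _ :=
      MonsterX.MainPack.card_cent_t Instance.mGroup Instance.mRep Instance.mLat InstanceFinal.mOrbit Instance.mTrans
    rw [h1]
    norm_num
  · -- six transpositions
    intro a b ha hb hab
    obtain ⟨g, rfl⟩ := isConj_iff.1 ha
    obtain ⟨g', rfl⟩ := isConj_iff.1 hb
    have h1 : orderOf (tG KDone.mGroup KDone.mRep * ((g⁻¹ * g') * tG KDone.mGroup KDone.mRep * (g⁻¹ * g')⁻¹)) ≤ 6 :=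
      six Instance.mGroup Instance.mRep Instance.mLat InstanceFinal.mOrbit Instance.mTrans
        InstanceFinal.mExtra.order_le (g⁻¹ * g')
    have h2 := orderOf_conj' g (tG KDone.mGroup KDone.mRep * ((g⁻¹ * g') * tG KDone.mGroup KDone.mRep * (g⁻¹ * g')⁻¹))
    have h3 : g * (tG KDone.mGroup KDone.mRep * ((g⁻¹ * g') * tG KDone.mGroup KDone.mRep * (g⁻¹ * g')⁻¹)) * g⁻¹ =
        g * tG KDone.mGroup KDone.mRep * g⁻¹ * (g' * tG KDone.mGroup KDone.mRep * g'⁻¹) := by group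
    rw [h3, hab] at h2
    omega
  · -- the fifth power
    obtain ⟨c, hc'⟩ := MFive.exists_conj_of_conj h h13 (by decide) (x := x) (y := x ^ 5) (s := H131.T5M13D.n) hx13
      (by rw [← pow_mul, mul_comm, pow_mul, hx13, one_pow]) (by
        rw [map_pow, hxs]
        exact H131.T5M13D.ns)
    refine ⟨c, ?_⟩
    have h1 := congrArg Subtype.val hc'
    simpa only [Subgroup.coe_mul, InvMemClass.coe_inv, SubmonoidClass.coe_pow] using h1

end D

/-- order 3, commuting with `z` -/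
theorem three_in {x : centralizer ({zz} : Set MG)} (hx : orderOf x = 3) :
    ¬ 13 ^ 2 ∣ Nat.card ↥(centralizer ({(x : MG)} : Set MG)) := by
  have := finite
  have := simple
  have I := CoOneFin.coOne
  have htr := KPair.trNe KDone.lft LThreeB.Row.cent (LThreeMBTr.traceNe KDone.lft LThreeMBTr.TensK.tens)
  have hxo : orderOf (x : MG) = 3 := by rw [Subgroup.orderOf_coe, hx]
  rcases I.ranks (pi x) (orderOf_pi chart hx) with h1 | h1 | h1 | h1
  · intro hd
    exact absurd (hd.trans (H199.AbMon.three_zero' hx h1)) (by norm_num)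
  · obtain ⟨x₀, u, g, hx₀, hfr₀, huz, hux, hne, hg⟩ :=
      KPair.hasPair KDone.lft LThreeB.Row.cent PreUniq.MonRow.second COct.octPair
    obtain ⟨k, hk⟩ := conj_six chart htr I.ranks I.six
      (fun x hx h2 => ⟨(good_of_inputs chart I hx h2 : Good.{0} _).simple, (good_of_inputs chart I hx h2 : Good.{0} _).nc⟩)
      hx₀ hfr₀ huz hux hne hg hx h1
    rw [← BpSpor.card_cent_of_conj hk]
    intro hd
    exact absurd (hd.trans (H199.AbMon.three_zero' hx₀ hfr₀)) (by norm_num)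
  · obtain ⟨e⟩ := LThreeB.isoTh_of_inputs chart I hx h1
    rw [card_XX, hxo, Nat.card_congr e.toEquiv, Cfsg.Agent.S1700.result.2]
    norm_num
  · obtain ⟨e⟩ := LThreeB.isoFi_of_inputs chart I hx h1
    rw [card_XX, hxo, Nat.card_congr e.toEquiv, Cfsg.Agent.S1698.result.2]
    norm_num

/-- **order 3, commuting with a conjugate of `z`** -/
theorem three_not {x : MG} (hx : orderOf x = 3) (he : Ev x) : ¬ 13 ^ 2 ∣ Nat.card ↥(centralizer ({x} : Set MG)) := by
  obtain ⟨x', hx', hc⟩ := exists_in hx he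
  rw [← hc]
  exact three_in hx'

/-- **The Monster at 13**, the model -/
theorem model_thirteen : ∃ U : Subgroup MG, IsPGroup 13 U ∧
    (∀ c : MG, c ∈ centralizer (U : Set MG) → ¬ 13 ∣ orderOf c → c = 1) ∧ ∀ g : MG, ¬ 13 ^ 2 ∣ orderOf g := by
  have := finite
  have h13 : Nat.Prime 13 := by norm_num
  haveI : Fact (Nat.Prime 13) := ⟨h13⟩
  have hexp : ∀ g : MG, ¬ 13 ^ 2 ∣ orderOf g := by
    intro g hg
    have h1 : orderOf (g ^ (orderOf g / 13 ^ 2)) = 13 ^ 2 := orderOf_pow_orderOf_div (orderOf_pos g).ne' hg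
    have h2 := H31.TwoCyc.MThirteen.thirteen h1
    norm_num at h2
  obtain ⟨x, t, Q, hD⟩ := model_DD
  obtain ⟨R, W, hr⟩ := exists_RW hD
  have hnab : ¬ ∀ a ∈ R, ∀ b ∈ R, a * b = b * a := fun hab => Ab.false hD ⟨hr, hab⟩
  refine ⟨R, IsPGroup.of_card hr.card, ?_, hexp⟩
  intro c hc hc13
  by_contra hc1
  have ho1 : orderOf c ≠ 1 := fun h => hc1 (orderOf_eq_one_iff.1 h)
  obtain ⟨r, hrp, hrc⟩ := Nat.exists_prime_and_dvd ho1
  have hr13 : r ≠ 13 := by
    rintro rfl
    exact hc13 hrc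
  have hdr : r ∣ Nat.card ↥(centralizer (R : Set MG)) := hrc.trans (Subgroup.orderOf_dvd_natCard _ hc)
  have hr2 : r ≠ 2 := by
    rintro rfl
    haveI : Fact (Nat.Prime 2) := ⟨Nat.prime_two⟩
    obtain ⟨u, hu⟩ := exists_prime_orderOf_dvd_card' 2 hdr
    exact hr.no_cent hD (u := (u : MG)) (by rw [Subgroup.orderOf_coe, hu]) fun r hrR =>
      (mem_centralizer_iff.1 u.2 r hrR).symm
  obtain ⟨w, y, hww, hw1, hwR, hwx, hyR, hyo, hwy⟩ := exists_comm hD hr hrp hdr
  have hwo : orderOf w = 2 := orderOf_eq_prime (by rw [pow_two, hww]) hw1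
  have hzw : IsConj zz w := (hD.cls w hwo).resolve_right fun ht => hD.not_norm ht hwx
  obtain ⟨g, hg⟩ := isConj_iff.1 hzw
  -- a fixed point of `w` on `R`
  obtain ⟨c0, hc0R, hc0w, hc01⟩ : ∃ c0 ∈ R, w * c0 * w⁻¹ = c0 ∧ c0 ≠ 1 := by
    by_contra hcon
    push Not at hcon
    exact hnab (comm_of_free hww hwR hcon)
  have hc0w' : w * c0 = c0 * w := mul_inv_eq_iff_eq_mul.1 hc0w
  obtain ⟨j, hj3, hj⟩ : ∃ j ≤ 3, orderOf c0 = 13 ^ j := by
    have h1 : orderOf c0 ∣ 13 ^ 3 := by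
      rw [← hr.card]
      exact Subgroup.orderOf_dvd_natCard _ hc0R
    exact (Nat.dvd_prime_pow h13).1 h1
  have hc0o : orderOf c0 = 13 := by
    have h1 : j < 2 := by
      by_contra hlt
      exact hexp c0 (hj ▸ pow_dvd_pow 13 (by omega))
    have h2 : j ≠ 0 := by
      rintro rfl
      rw [pow_zero] at hj
      exact hc01 (orderOf_eq_one_iff.1 hj)
    rw [hj, show j = 1 by omega, pow_one]
  have hy0 : c0 * y = y * c0 := mem_centralizer_iff.1 hyR c0 hc0R
  -- conjugate into `C(z)`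
  have hmem : ∀ {a : MG}, w * a = a * w → zz * (g⁻¹ * a * g) = (g⁻¹ * a * g) * zz := by
    intro a ha
    calc zz * (g⁻¹ * a * g) = g⁻¹ * ((g * zz * g⁻¹) * a) * g := by group
      _ = g⁻¹ * (a * (g * zz * g⁻¹)) * g := by rw [hg, ha]
      _ = _ := by group
  have hord : ∀ a : MG, orderOf (g⁻¹ * a * g) = orderOf a := by
    intro a
    have h1 := MulEquiv.orderOf_eq (MulAut.conj g⁻¹) a
    rwa [MulAut.conj_apply, inv_inv] at h1
  let c1 : centralizer ({zz} : Set MG) := ⟨g⁻¹ * c0 * g, mem_centralizer_singleton_iff.2 (hmem hc0w').symm⟩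
  have hc1o : orderOf c1 = 13 := by rw [Subgroup.orderOf_mk, hord, hc0o]
  let y1 : centralizer ({zz} : Set MG) := ⟨g⁻¹ * y * g, mem_centralizer_singleton_iff.2 (hmem hwy).symm⟩
  have hy1o : orderOf y1 = r := by rw [Subgroup.orderOf_mk, hord, hyo]
  have hcy : y1 * c1 = c1 * y1 := by
    refine Subtype.ext ?_
    show (g⁻¹ * y * g) * (g⁻¹ * c0 * g) = (g⁻¹ * c0 * g) * (g⁻¹ * y * g)
    calc (g⁻¹ * y * g) * (g⁻¹ * c0 * g) = g⁻¹ * (y * c0) * g := by group
      _ = g⁻¹ * (c0 * y) * g := by rw [hy0]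
      _ = _ := by group
  have h156 : r ∣ 2 ^ 2 * 3 * 13 := by
    have hfc := BpSpor.MBigCo.finite_co1
    refine Dvd.dvd.trans ?_ (H518.Co13.cent_co1 (MFive.orderOf_pi chart (by norm_num) (by decide) hc1o))
    have h1 : orderOf (pi y1) = r := MFive.orderOf_pi chart hrp (hrp.odd_of_ne_two hr2) hy1o
    rw [← h1]
    refine Subgroup.orderOf_dvd_natCard _ (mem_centralizer_singleton_iff.2 ?_)
    rw [← map_mul, ← map_mul, hcy]
  have hr3 : r = 3 := by
    rcases hrp.dvd_mul.1 h156 with h2 | h2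
    · rcases hrp.dvd_mul.1 h2 with h3 | h3
      · exact absurd ((Nat.prime_dvd_prime_iff_eq hrp Nat.prime_two).1 (hrp.dvd_of_dvd_pow h3)) hr2
      · exact (Nat.prime_dvd_prime_iff_eq hrp Nat.prime_three).1 h3
    · exact absurd ((Nat.prime_dvd_prime_iff_eq hrp h13).1 h2) hr13
  subst hr3
  refine three_not hyo ⟨g, by rw [hg]; exact hwy⟩ ?_
  refine Dvd.dvd.trans (pow_dvd_pow 13 (by norm_num : 2 ≤ 3)) ?_
  rw [← hr.card]
  exact card_dvd_of_le fun a ha => mem_centralizer_singleton_iff.2 (mem_centralizer_iff.1 hyR a ha)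

/-- transport -/
theorem transport {G : Type u} {H : Type v} [Group G] [Group H] (e : G ≃* H) {p : ℕ}
    (h : ∃ U : Subgroup H, IsPGroup p U ∧ (∀ c : H, c ∈ centralizer (U : Set H) → ¬ p ∣ orderOf c → c = 1) ∧
      ∀ g : H, ¬ p ^ 2 ∣ orderOf g) :
    ∃ U : Subgroup G, IsPGroup p U ∧ (∀ c : G, c ∈ centralizer (U : Set G) → ¬ p ∣ orderOf c → c = 1) ∧
      ∀ g : G, ¬ p ^ 2 ∣ orderOf g := by
  obtain ⟨U, hU, hC, ho⟩ := h
  refine ⟨U.comap e.toMonoidHom, hU.comap_of_injective _ e.injective, ?_, ?_⟩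
  · intro y hy hy'
    have h1 : e y = 1 := by
      refine hC (e y) ?_ (by rwa [MulEquiv.orderOf_eq])
      rw [mem_centralizer_iff]
      intro u hu
      have h2 := mem_centralizer_iff.1 hy (e.symm u) (by
        show e (e.symm u) ∈ U
        rwa [e.apply_symm_apply])
      have h3 := congrArg e h2
      rwa [map_mul, map_mul, e.apply_symm_apply] at h3
    exact (map_eq_one_iff e e.injective).1 h1
  · intro g
    rw [← MulEquiv.orderOf_eq e]
    exact ho _

/-- **The Monster at 13.** -/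
theorem data_thirteen {S : Type u} [Group S] (h : Spor.IsoM S) : ∃ U : Subgroup S, IsPGroup 13 U ∧
    (∀ c : S, c ∈ centralizer (U : Set S) → ¬ 13 ∣ orderOf c → c = 1) ∧ ∀ g : S, ¬ 13 ^ 2 ∣ orderOf g := by
  obtain ⟨f⟩ := h
  obtain ⟨f'⟩ := Cfsg.Agent.MonsterP.Equiv.equiv
  exact transport (f.trans f') model_thirteen

/-- `x0` for the Monster and `p = 13` -/
theorem x0_thirteen {S : Type u} [Group S] [Finite S] (h : Spor.IsoM S) [Fact (Nat.Prime 13)] {M : Ideal AlgInt}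
    (hM : IsPModular 13 M) :
    H674.XZ.x0 13 M S = Nat.card {χ : IrrCharacter S // ¬ 13 ∣ charDegree (χ : S → ℂ)} := by
  obtain ⟨U, hU, hC, ho⟩ := data_thirteen h
  exact H761.XZ.x0_eq hM hU hC ho

end Cfsg.Agent.H404.XR
end
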